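import Mathlib

/-!
Linear series on the line spanned by polar parts of residue free differentials, seen as derivatives
of rational functions `G / ∏ (X - r j) ^ a j`.
-/

namespace Groth.Agent.EffDiv29

open Polynomial Module

variable {k : Type*} [Field k] [CharZero k] {m : ℕ} (r : Fin m → k) (a : Fin m → ℕ)

noncomputable def Lp : k[X] := ∏ j, (X - C (r j))

noncomputable def Ap : k[X] := ∏ j, (X - C (r j)) ^ a j

noncomputable def Sp : k[X] := ∑ j, C (a j : k) * ∏ i ∈ Finset.univ.erase j, (X - C (r i))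

/-- numerator of the derivative of `G / Ap` -/
noncomputable def Phi : k[X] →ₗ[k] k[X] :=
  LinearMap.mulRight k (Lp r) ∘ₗ derivative - LinearMap.mulRight k (Sp r a)

lemma Phi_apply (G : k[X]) : Phi r a G = derivative G * Lp r - G * Sp r a := by
  simp [Phi]

lemma derivative_Ap_mul : derivative (Ap r a) * Lp r = Ap r a * Sp r a := by
  rw [Ap, derivative_prod_finset, Finset.sum_mul, Sp, Finset.mul_sum]
  refine Finset.sum_congr rfl fun j _ => ?_
  rw [← Finset.mul_prod_erase _ (fun i => (X - C (r i)) ^ a i) (Finset.mem_univ j), Lp,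
    ← Finset.mul_prod_erase _ (fun i => (X - C (r i))) (Finset.mem_univ j), derivative_pow]
  rcases Nat.eq_zero_or_pos (a j) with h | h
  · simp [h]
  · simp only [derivative_sub, derivative_X, derivative_C, sub_zero, mul_one, Nat.cast_id]
    have e : (X - C (r j)) ^ a j = (X - C (r j)) ^ (a j - 1) * (X - C (r j)) := by
      rw [← pow_succ, Nat.sub_add_cancel h]
    rw [e]
    ring

lemma Phi_mul (G H : k[X]) : Phi r a (G * H) = Phi r a G * H + G * derivative H * Lp r := by
  simp only [Phi_apply, derivative_mul]; ring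

lemma Phi_Ap : Phi r a (Ap r a) = 0 := by
  rw [Phi_apply, derivative_Ap_mul, sub_self]

lemma Phi_Ap_mul (Q : k[X]) :
    Phi r a (Ap r a * Q) = (∏ j, (X - C (r j)) ^ (a j + 1)) * derivative Q := by
  rw [Phi_mul, Phi_Ap, zero_mul, zero_add, Ap, Lp, mul_right_comm, ← Finset.prod_mul_distrib]
  simp [pow_succ]

lemma Phi_part_mul (i : Fin m) (R : k[X]) :
    Phi r a ((∏ j ∈ Finset.univ.erase i, (X - C (r j)) ^ a j) * R) =
      (∏ j ∈ Finset.univ.erase i, (X - C (r j)) ^ (a j + 1)) *
        (derivative R * (X - C (r i)) - C (a i : k) * R) := by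
  set Ai := ∏ j ∈ Finset.univ.erase i, (X - C (r j)) ^ a j
  set Li := ∏ j ∈ Finset.univ.erase i, (X - C (r j))
  have hA : Ap r a = (X - C (r i)) ^ a i * Ai := (Finset.mul_prod_erase _ _ (Finset.mem_univ i)).symm
  have hL : Lp r = (X - C (r i)) * Li := (Finset.mul_prod_erase _ _ (Finset.mem_univ i)).symm
  have h1 : (∏ j ∈ Finset.univ.erase i, (X - C (r j)) ^ (a j + 1)) = Ai * Li := by
    rw [← Finset.prod_mul_distrib]; simp [pow_succ]
  have h2 := Phi_mul r a (Ai * R) ((X - C (r i)) ^ a i)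
  rw [show Ai * R * (X - C (r i)) ^ a i = Ap r a * R by rw [hA]; ring, Phi_mul, Phi_Ap, zero_mul,
    zero_add] at h2
  rw [h1]
  refine mul_right_cancel₀ (pow_ne_zero (a i) (X_sub_C_ne_zero (r i))) ?_
  rw [eq_sub_of_add_eq h2.symm, derivative_pow, hA, hL]
  rcases Nat.eq_zero_or_pos (a i) with h | h
  · simp [h]; ring
  · simp only [derivative_sub, derivative_X, derivative_C, sub_zero, mul_one, Nat.cast_id]
    have e : (X - C (r i)) ^ a i = (X - C (r i)) ^ (a i - 1) * (X - C (r i)) := by
      rw [← pow_succ, Nat.sub_add_cancel h]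
    rw [e]
    ring

lemma X_sub_mul_Phi_pow_mul (q : k) (e : ℕ) (H : k[X]) :
    (X - C q) * Phi r a ((X - C q) ^ e * H) = (X - C q) ^ e *
      (((e : k[X]) * H + (X - C q) * derivative H) * Lp r - (X - C q) * H * Sp r a) := by
  rw [Phi_apply, derivative_mul]
  rcases e with _ | e
  · simp; ring
  · rw [derivative_pow]
    simp only [derivative_sub, derivative_X, derivative_C, sub_zero, mul_one, Nat.add_sub_cancel,
      map_natCast]
    push_cast
    ring

lemma eval_Sp (i : Fin m) :
    (Sp r a).eval (r i) = (a i : k) * (∏ j ∈ Finset.univ.erase i, (X - C (r j))).eval (r i) := by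
  rw [Sp, eval_finset_sum, Finset.sum_eq_single i]
  · simp
  · intro j _ hj
    rw [eval_mul, eval_prod, Finset.prod_eq_zero (Finset.mem_erase.mpr ⟨hj.symm, Finset.mem_univ i⟩)
      (by simp), mul_zero]
  · simp

lemma eval_part_ne (hr : Function.Injective r) (i : Fin m) :
    (∏ j ∈ Finset.univ.erase i, (X - C (r j))).eval (r i) ≠ 0 := by
  rw [eval_prod, Finset.prod_ne_zero_iff]
  intro j hj
  simp only [eval_sub, eval_X, eval_C, sub_ne_zero]
  exact fun h => Finset.ne_of_mem_erase hj (hr h).symm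

lemma eval_Lp_ne {q : k} (hq : ∀ j, q ≠ r j) : (Lp r).eval q ≠ 0 := by
  rw [Lp, eval_prod, Finset.prod_ne_zero_iff]
  intro j _
  simpa [sub_ne_zero] using hq j

lemma eval_Ap_ne {q : k} (hq : ∀ j, q ≠ r j) : (Ap r a).eval q ≠ 0 := by
  rw [Ap, eval_prod, Finset.prod_ne_zero_iff]
  intro j _
  rw [eval_pow, eval_sub, eval_X, eval_C]
  exact pow_ne_zero _ (sub_ne_zero.mpr (hq j))

lemma natDegree_Ap : (Ap r a).natDegree = ∑ j, a j := by
  rw [Ap, natDegree_prod_of_monic _ _ fun j _ => (monic_X_sub_C _).pow _]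
  simp

lemma monic_Ap : (Ap r a).Monic := monic_prod_of_monic _ _ fun j _ => (monic_X_sub_C _).pow _

lemma natDegree_Lp : (Lp r).natDegree = m := by
  rw [Lp, natDegree_prod_of_monic _ _ fun j _ => monic_X_sub_C _]
  simp

lemma Ap_pow_dvd (i : Fin m) {n : ℕ} (hn : n ≤ a i) : (X - C (r i)) ^ n ∣ Ap r a :=
  (pow_dvd_pow _ hn).trans (Finset.dvd_prod_of_mem (fun j => (X - C (r j)) ^ a j) (Finset.mem_univ i))

lemma le_of_dvd_Ap (hr : Function.Injective r) (i : Fin m) {n : ℕ}
    (h : (X - C (r i)) ^ n ∣ Ap r a) : n ≤ a i := by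
  by_contra hlt
  rw [Ap, ← Finset.mul_prod_erase _ _ (Finset.mem_univ i)] at h
  obtain ⟨w, hw⟩ := (pow_dvd_pow (X - C (r i)) (by omega : a i + 1 ≤ n)).trans h
  rw [pow_succ, mul_assoc] at hw
  have := congrArg (eval (r i)) (mul_left_cancel₀ (pow_ne_zero _ (X_sub_C_ne_zero _)) hw)
  simp only [eval_prod, eval_mul, eval_sub, eval_X, eval_C, sub_self, zero_mul] at this
  rw [Finset.prod_eq_zero_iff] at this
  obtain ⟨j, hj, hj0⟩ := this
  rw [eval_pow, eval_sub, eval_X, eval_C] at hj0
  exact Finset.ne_of_mem_erase hj (hr (sub_eq_zero.mp (eq_zero_of_pow_eq_zero hj0)).symm)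

/-- no drop at a marked point unless the order is `a i` -/
lemma pow_dvd_of_Phi_marked (hr : Function.Injective r) (i : Fin m) {n : ℕ} {G : k[X]}
    (h : (X - C (r i)) ^ n ∣ Phi r a G) (hne : ∀ e, e = a i → e < n → (X - C (r i)) ^ e ∣ G →
      (X - C (r i)) ^ (e + 1) ∣ G) : (X - C (r i)) ^ n ∣ G := by
  induction n with
  | zero => simp
  | succ n ih =>
    obtain ⟨H, hH⟩ := ih ((pow_dvd_pow _ n.le_succ).trans h) fun e he hlt => hne e he (by omega)
    rcases eq_or_ne n (a i) with he | he
    · exact hne n he n.lt_succ_self ⟨H, hH⟩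
    obtain ⟨w, hw⟩ := h
    have h1 := X_sub_mul_Phi_pow_mul r a (r i) n H
    rw [← hH, hw, Lp, ← Finset.mul_prod_erase _ _ (Finset.mem_univ i)] at h1
    set Li := ∏ j ∈ Finset.univ.erase i, (X - C (r j))
    have h2 : (X - C (r i)) * ((X - C (r i)) * w) = (X - C (r i)) *
        (((n : k[X]) * H + (X - C (r i)) * derivative H) * Li - H * Sp r a) := by
      refine mul_left_cancel₀ (pow_ne_zero n (X_sub_C_ne_zero (r i))) ?_
      linear_combination h1
    have h3 := congrArg (eval (r i)) (mul_left_cancel₀ (X_sub_C_ne_zero (r i)) h2)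
    simp only [eval_mul, eval_sub, eval_X, eval_C, sub_self, zero_mul, eval_add, eval_natCast,
      add_zero, eval_Sp r a i] at h3
    have h4 : ((n : k) - (a i : k)) * (H.eval (r i) * Li.eval (r i)) = 0 := by linear_combination -h3
    have h5 : H.eval (r i) = 0 := by
      refine (mul_eq_zero.mp ((mul_eq_zero.mp h4).resolve_left ?_)).resolve_right (eval_part_ne r hr i)
      exact fun h => he (by exact_mod_cast sub_eq_zero.mp h)
    obtain ⟨H', rfl⟩ := dvd_iff_isRoot.mpr h5
    exact ⟨H', by rw [hH, pow_succ]; ring⟩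

lemma pow_succ_dvd_of_Phi_unmarked {q : k} (hq : ∀ j, q ≠ r j) {n : ℕ} {G : k[X]}
    (h : (X - C q) ^ n ∣ Phi r a G) (h0 : G.eval q = 0) : (X - C q) ^ (n + 1) ∣ G := by
  induction n with
  | zero => simpa using dvd_iff_isRoot.mpr h0
  | succ n ih =>
    obtain ⟨H, hH⟩ := ih ((pow_dvd_pow _ n.le_succ).trans h)
    obtain ⟨w, hw⟩ := h
    have h1 := X_sub_mul_Phi_pow_mul r a q (n + 1) H
    rw [← hH, hw] at h1
    have h2 : (X - C q) * w = (((n + 1 : ℕ) : k[X]) * H + (X - C q) * derivative H) * Lp r -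
        (X - C q) * H * Sp r a := by
      refine mul_left_cancel₀ (pow_ne_zero (n + 1) (X_sub_C_ne_zero q)) ?_
      linear_combination h1
    have h3 := congrArg (eval q) h2
    simp only [eval_mul, eval_sub, eval_X, eval_C, sub_self, zero_mul, eval_add, eval_natCast,
      add_zero, sub_zero] at h3
    have h5 : H.eval q = 0 := by
      refine (mul_eq_zero.mp ((mul_eq_zero.mp h3.symm).resolve_right (eval_Lp_ne r hq))).resolve_left ?_
      exact_mod_cast n.succ_ne_zero
    obtain ⟨H', rfl⟩ := dvd_iff_isRoot.mpr h5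
    exact ⟨H', by rw [hH, pow_succ _ (n + 1)]; ring⟩

lemma pow_dvd_Phi {q : k} {n : ℕ} {G : k[X]} (h : (X - C q) ^ (n + 1) ∣ G) :
    (X - C q) ^ n ∣ Phi r a G := by
  obtain ⟨H, rfl⟩ := h
  have h1 := X_sub_mul_Phi_pow_mul r a q (n + 1) H
  refine ⟨((n + 1 : ℕ) : k[X]) * H * Lp r + (X - C q) * derivative H * Lp r - (X - C q) * H * Sp r a,
    mul_left_cancel₀ (X_sub_C_ne_zero q) ?_⟩
  linear_combination h1

lemma pow_dvd_Phi_marked (i : Fin m) {n : ℕ} {G : k[X]} (h : (X - C (r i)) ^ n ∣ G) :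
    (X - C (r i)) ^ n ∣ Phi r a G := by
  obtain ⟨H, rfl⟩ := h
  have h1 := X_sub_mul_Phi_pow_mul r a (r i) n H
  rw [show ((n : k[X]) * H + (X - C (r i)) * derivative H) * Lp r - (X - C (r i)) * H * Sp r a =
    (X - C (r i)) * (((n : k[X]) * H + (X - C (r i)) * derivative H) *
      (∏ j ∈ Finset.univ.erase i, (X - C (r j))) - H * Sp r a) by
      rw [Lp, ← Finset.mul_prod_erase _ _ (Finset.mem_univ i)]; ring, ← mul_left_comm] at h1
  rw [mul_left_cancel₀ (X_sub_C_ne_zero (r i)) h1]
  exact Dvd.intro _ rfl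

lemma coeff_X_mul_Phi {G : k[X]} {n : ℕ} (hG : G.natDegree ≤ n) :
    (X * Phi r a G).coeff (n + m) = ((n : k) - (∑ j, a j : ℕ)) * G.coeff n := by
  have h1 : (X * derivative G).natDegree ≤ n := by
    refine natDegree_le_iff_coeff_eq_zero.mpr fun j hj => ?_
    rcases j with _ | j
    · simp
    · rw [coeff_X_mul, coeff_derivative, coeff_eq_zero_of_natDegree_lt (by omega), zero_mul]
  have hterm : ∀ j : Fin m,
      (X * (C (a j : k) * ∏ i ∈ Finset.univ.erase j, (X - C (r i)))).natDegree ≤ m ∧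
      (X * (C (a j : k) * ∏ i ∈ Finset.univ.erase j, (X - C (r i)))).coeff m = (a j : k) := by
    intro j
    have hm : 0 < m := j.pos
    have hmon : (∏ i ∈ Finset.univ.erase j, (X - C (r i))).Monic :=
      monic_prod_of_monic _ _ fun i _ => monic_X_sub_C _
    have hdeg : (∏ i ∈ Finset.univ.erase j, (X - C (r i))).natDegree = m - 1 := by
      rw [natDegree_prod_of_monic _ _ fun i _ => monic_X_sub_C _]
      simp
    refine ⟨?_, ?_⟩
    · refine natDegree_mul_le.trans ?_
      have := natDegree_C_mul_le (a j : k) (∏ i ∈ Finset.univ.erase j, (X - C (r i)))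
      rw [natDegree_X]
      omega
    · obtain ⟨m', hm'⟩ := Nat.exists_eq_succ_of_ne_zero hm.ne'
      have h2 : (∏ i ∈ Finset.univ.erase j, (X - C (r i))).coeff m' = 1 := by
        rw [show m' = (∏ i ∈ Finset.univ.erase j, (X - C (r i))).natDegree by omega]; exact hmon
      exact (congrArg (coeff _) hm').trans (by rw [coeff_X_mul, coeff_C_mul, h2, mul_one])
  have h2 : (X * Sp r a).natDegree ≤ m := by
    rw [Sp, Finset.mul_sum]
    exact natDegree_sum_le_of_forall_le _ _ fun j _ => (hterm j).1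
  have h3 : (X * Sp r a).coeff m = ((∑ j, a j : ℕ) : k) := by
    rw [Sp, Finset.mul_sum, finset_sum_coeff, Nat.cast_sum]
    exact Finset.sum_congr rfl fun j _ => (hterm j).2
  have h4 : (X * derivative G).coeff n = (n : k) * G.coeff n := by
    rcases n with _ | n
    · simp
    · rw [coeff_X_mul, coeff_derivative]; push_cast; ring
  rw [Phi_apply, mul_sub, ← mul_assoc, mul_left_comm X G, coeff_sub,
    coeff_mul_add_eq_of_natDegree_le h1 (natDegree_Lp r).le, coeff_mul_add_eq_of_natDegree_le hG h2, h3, h4,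
    show (Lp r).coeff m = 1 from by
      have : (Lp r).Monic := monic_prod_of_monic _ _ fun j _ => monic_X_sub_C _
      have h := this.coeff_natDegree
      rwa [natDegree_Lp] at h]
  ring

lemma X_mul_Phi_natDegree_le {G : k[X]} {n : ℕ} (hG : G.natDegree ≤ n) :
    (X * Phi r a G).natDegree ≤ n + m := by
  refine natDegree_le_iff_coeff_eq_zero.mpr fun j hj => ?_
  obtain ⟨t, rfl⟩ := Nat.exists_eq_add_of_lt hj
  rw [show n + m + t + 1 = (n + t + 1) + m by omega, coeff_X_mul_Phi r a (by omega),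
    coeff_eq_zero_of_natDegree_lt (by omega), mul_zero]

theorem eq_smul_Ap_of_Phi_eq_zero {G : k[X]} (h : Phi r a G = 0) : ∃ c : k, G = c • Ap r a := by
  refine ⟨G.coeff (∑ j, a j), ?_⟩
  set G' := G - G.coeff (∑ j, a j) • Ap r a with hG'
  have h' : Phi r a G' = 0 := by rw [hG', map_sub, map_smul, h, Phi_Ap, smul_zero, sub_zero]
  by_contra hne
  have hne' : G' ≠ 0 := sub_ne_zero.mpr hne
  have hc := coeff_X_mul_Phi r a (G := G') le_rfl
  rw [h', mul_zero, coeff_zero] at hc
  have hl : G'.coeff G'.natDegree ≠ 0 := mt leadingCoeff_eq_zero.mp hne'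
  have heq : G'.natDegree = ∑ j, a j := by
    have := (mul_eq_zero.mp hc.symm).resolve_right hl
    exact_mod_cast sub_eq_zero.mp this
  refine hl ?_
  rw [heq, hG', coeff_sub, coeff_smul, smul_eq_mul]
  have : (Ap r a).coeff (∑ j, a j) = 1 := by
    rw [← natDegree_Ap r a]; exact monic_Ap r a
  rw [this, mul_one, sub_self]

section spaces

/-- the space of differentials -/
noncomputable def Vsp (b : ℕ) : Submodule k k[X] :=
  (degreeLT k ((∑ j, a j) + b + 1)).map (Phi r a)

omit [CharZero k] in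
lemma finrank_degreeLT' (n : ℕ) : finrank k (degreeLT k n) = n := by
  rw [(degreeLTEquiv k n).finrank_eq, finrank_fin_fun]

omit [CharZero k] in
instance (n : ℕ) : FiniteDimensional k (degreeLT k n) :=
  LinearEquiv.finiteDimensional (degreeLTEquiv k n).symm

omit [CharZero k] in
lemma mem_degreeLT_iff' {G : k[X]} {n : ℕ} : G ∈ degreeLT k n ↔ G = 0 ∨ G.natDegree < n := by
  rw [mem_degreeLT]
  rcases eq_or_ne G 0 with rfl | hG
  · simp [bot_lt_iff_ne_bot]
  · rw [degree_eq_natDegree hG]; simp [hG]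

/-- multiples of a power -/
noncomputable def Sdiv (q : k) (M n : ℕ) : Submodule k k[X] :=
  (degreeLT k (M - n)).map (LinearMap.mulLeft k ((X - C q) ^ n))

omit [CharZero k] in
lemma finrank_Sdiv (q : k) (M n : ℕ) : finrank k (Sdiv q M n) = M - n := by
  rw [Sdiv, ← LinearEquiv.finrank_eq (Submodule.equivMapOfInjective
    (LinearMap.mulLeft k ((X - C q) ^ n))
      (fun x y h => mul_left_cancel₀ (pow_ne_zero n (X_sub_C_ne_zero q)) h) _),
    finrank_degreeLT']

omit [CharZero k] in
instance (q : k) (M n : ℕ) : FiniteDimensional k (Sdiv q M n) := by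
  unfold Sdiv; infer_instance

omit [CharZero k] in
lemma mem_Sdiv {q : k} {M n : ℕ} {G : k[X]} :
    G ∈ Sdiv q M n ↔ G ∈ degreeLT k M ∧ (X - C q) ^ n ∣ G := by
  have hp : ((X - C q) ^ n).natDegree = n := by simp
  constructor
  · rintro ⟨H, hH, rfl⟩
    refine ⟨?_, Dvd.intro _ rfl⟩
    rcases mem_degreeLT_iff'.mp hH with rfl | h
    · simp
    · refine mem_degreeLT_iff'.mpr (Or.inr ?_)
      have := natDegree_mul_le (p := (X - C q) ^ n) (q := H)
      rw [hp] at this
      show ((X - C q) ^ n * H).natDegree < M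
      omega
  · rintro ⟨hG, H, rfl⟩
    refine ⟨H, mem_degreeLT_iff'.mpr ?_, rfl⟩
    rcases eq_or_ne H 0 with h | h
    · exact Or.inl h
    · refine Or.inr ?_
      rcases mem_degreeLT_iff'.mp hG with h' | h'
      · exact absurd h' (mul_ne_zero (pow_ne_zero _ (X_sub_C_ne_zero q)) h)
      · rw [natDegree_mul (pow_ne_zero _ (X_sub_C_ne_zero q)) h, hp] at h'
        omega

lemma Ap_mem (b : ℕ) : Ap r a ∈ degreeLT k ((∑ j, a j) + b + 1) :=
  mem_degreeLT_iff'.mpr (Or.inr (by rw [natDegree_Ap]; omega))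

lemma finrank_map_of_mem {S : Submodule k k[X]} [FiniteDimensional k S] (h : Ap r a ∈ S) :
    finrank k (S.map (Phi r a)) + 1 = finrank k S := by
  have h2 := LinearMap.finrank_range_add_finrank_ker ((Phi r a).domRestrict S)
  rw [LinearMap.range_domRestrict] at h2
  have hker : LinearMap.ker ((Phi r a).domRestrict S) = k ∙ (⟨Ap r a, h⟩ : S) := by
    ext x
    rw [LinearMap.mem_ker, LinearMap.domRestrict_apply, Submodule.mem_span_singleton]
    refine ⟨fun hx => ?_, ?_⟩
    · obtain ⟨c, hc⟩ := eq_smul_Ap_of_Phi_eq_zero r a hx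
      exact ⟨c, Subtype.ext hc.symm⟩
    · rintro ⟨c, rfl⟩; simp [Phi_Ap]
  rw [hker, finrank_span_singleton (by simpa using (monic_Ap r a).ne_zero)] at h2
  exact h2

lemma finrank_map_of_notMem {S : Submodule k k[X]} [FiniteDimensional k S] (h : Ap r a ∉ S) :
    finrank k (S.map (Phi r a)) = finrank k S := by
  have h2 := LinearMap.finrank_range_add_finrank_ker ((Phi r a).domRestrict S)
  rw [LinearMap.range_domRestrict] at h2
  have hker : LinearMap.ker ((Phi r a).domRestrict S) = ⊥ := by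
    refine (Submodule.eq_bot_iff _).mpr fun x hx => ?_
    obtain ⟨c, hc⟩ := eq_smul_Ap_of_Phi_eq_zero r a (G := x) hx
    rcases eq_or_ne c 0 with rfl | hc0
    · exact Subtype.ext (by simpa using hc)
    · refine absurd ?_ h
      have : Ap r a = c⁻¹ • (x : k[X]) := by rw [hc, smul_smul, inv_mul_cancel₀ hc0, one_smul]
      rw [this]; exact S.smul_mem _ x.2
  rw [hker, finrank_bot, add_zero] at h2
  exact h2

theorem finrank_Vsp (b : ℕ) : finrank k (Vsp r a b) = (∑ j, a j) + b := by
  have := finrank_map_of_mem r a (Ap_mem r a b)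
  rw [finrank_degreeLT'] at this
  exact Nat.add_right_cancel this

instance (b : ℕ) : FiniteDimensional k (Vsp r a b) := by unfold Vsp; infer_instance

theorem inf_span_marked (hr : Function.Injective r) (b : ℕ) (i : Fin m) (n : ℕ) :
    Vsp r a b ⊓ (Ideal.span {(X - C (r i)) ^ n}).restrictScalars k =
      (Sdiv (r i) ((∑ j, a j) + b + 1) n).map (Phi r a) := by
  refine le_antisymm ?_ ?_
  · rintro _ ⟨⟨G, hG, rfl⟩, hd⟩
    have hd' : (X - C (r i)) ^ n ∣ Phi r a G := Ideal.mem_span_singleton.mp hd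
    by_cases hc : ∃ c : k, (X - C (r i)) ^ (a i + 1) ∣ G - c • Ap r a
    · obtain ⟨c, hc⟩ := hc
      refine ⟨G - c • Ap r a, mem_Sdiv.mpr ⟨sub_mem hG (Submodule.smul_mem _ _ (Ap_mem r a b)), ?_⟩, ?_⟩
      · refine pow_dvd_of_Phi_marked r a hr i ?_ fun e he _ _ => he ▸ hc
        rwa [map_sub, map_smul, Phi_Ap, smul_zero, sub_zero]
      · rw [map_sub, map_smul, Phi_Ap, smul_zero, sub_zero]
    · refine ⟨G, mem_Sdiv.mpr ⟨hG, pow_dvd_of_Phi_marked r a hr i hd' fun e he _ hdG => ?_⟩, rfl⟩
      exfalso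
      apply hc
      subst he
      obtain ⟨H, hH⟩ := hdG
      set Ai := ∏ j ∈ Finset.univ.erase i, (X - C (r j)) ^ a j
      have hA : Ap r a = (X - C (r i)) ^ a i * Ai := (Finset.mul_prod_erase _ _ (Finset.mem_univ i)).symm
      have hAi : Ai.eval (r i) ≠ 0 := by
        rw [eval_prod, Finset.prod_ne_zero_iff]
        intro j hj
        rw [eval_pow, eval_sub, eval_X, eval_C]
        exact pow_ne_zero _ (sub_ne_zero.mpr fun h => Finset.ne_of_mem_erase hj (hr h).symm)
      refine ⟨H.eval (r i) / Ai.eval (r i), ?_⟩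
      obtain ⟨w, hw⟩ := dvd_iff_isRoot.mpr
        (show (H - C (H.eval (r i) / Ai.eval (r i)) * Ai).IsRoot (r i) by
          simp [div_mul_cancel₀ _ hAi])
      refine ⟨w, ?_⟩
      rw [hH, hA, smul_eq_C_mul, pow_succ, mul_left_comm (C _), mul_assoc, ← hw, mul_sub]
  · rintro _ ⟨G, hG, rfl⟩
    obtain ⟨hG, hd⟩ := mem_Sdiv.mp hG
    exact ⟨⟨G, hG, rfl⟩, Ideal.mem_span_singleton.mpr (pow_dvd_Phi_marked r a i hd)⟩

theorem inf_span_unmarked (b : ℕ) {q : k} (hq : ∀ j, q ≠ r j) (n : ℕ) :
    Vsp r a b ⊓ (Ideal.span {(X - C q) ^ n}).restrictScalars k =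
      (Sdiv q ((∑ j, a j) + b + 1) (n + 1)).map (Phi r a) := by
  refine le_antisymm ?_ ?_
  · rintro _ ⟨⟨G, hG, rfl⟩, hd⟩
    refine ⟨G - (G.eval q / (Ap r a).eval q) • Ap r a,
      mem_Sdiv.mpr ⟨sub_mem hG (Submodule.smul_mem _ _ (Ap_mem r a b)), ?_⟩, ?_⟩
    · refine pow_succ_dvd_of_Phi_unmarked r a hq ?_ ?_
      · rw [map_sub, map_smul, Phi_Ap, smul_zero, sub_zero]; exact Ideal.mem_span_singleton.mp hd
      · simp [div_mul_cancel₀ _ (eval_Ap_ne r a hq)]
    · rw [map_sub, map_smul, Phi_Ap, smul_zero, sub_zero]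
  · rintro _ ⟨G, hG, rfl⟩
    obtain ⟨hG, hd⟩ := mem_Sdiv.mp hG
    exact ⟨⟨G, hG, rfl⟩, Ideal.mem_span_singleton.mpr (pow_dvd_Phi r a hd)⟩

theorem inf_degreeLT (b n : ℕ) :
    Vsp r a b ⊓ degreeLT k ((∑ j, a j) + b + m - n) =
      (degreeLT k ((∑ j, a j) + b + 1 - n)).map (Phi r a) := by
  set A := ∑ j, a j with hA
  refine le_antisymm ?_ ?_
  · rintro _ ⟨⟨G, hG, rfl⟩, hd⟩
    refine ⟨G - G.coeff A • Ap r a, ?_, by rw [map_sub, map_smul, Phi_Ap, smul_zero, sub_zero]⟩
    set G' := G - G.coeff A • Ap r a with hG'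
    have hGG : Phi r a G' = Phi r a G := by rw [hG', map_sub, map_smul, Phi_Ap, smul_zero, sub_zero]
    refine mem_degreeLT_iff'.mpr (or_iff_not_imp_left.mpr fun hne => ?_)
    have hl : G'.coeff G'.natDegree ≠ 0 := mt leadingCoeff_eq_zero.mp hne
    have hne' : G'.natDegree ≠ A := fun heq => hl (by
      rw [heq, hG', coeff_sub, coeff_smul, smul_eq_mul]
      have : (Ap r a).coeff A = 1 := by rw [hA, ← natDegree_Ap r a]; exact monic_Ap r a
      rw [this, mul_one, sub_self])
    have hc : (X * Phi r a G').coeff (G'.natDegree + m) ≠ 0 := by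
      rw [coeff_X_mul_Phi r a le_rfl]
      refine mul_ne_zero (sub_ne_zero.mpr ?_) hl
      exact_mod_cast hne'
    rw [hGG] at hc
    rcases hgm : G'.natDegree + m with _ | t
    · rw [hgm] at hc; simp at hc
    · rw [hgm, coeff_X_mul] at hc
      have hle := le_natDegree_of_ne_zero hc
      rcases mem_degreeLT_iff'.mp (hd : Phi r a G ∈ degreeLT k _) with h0 | h0
      · rw [h0, coeff_zero] at hc; exact absurd rfl hc
      · omega
  · rintro _ ⟨G, hG, rfl⟩
    rcases mem_degreeLT_iff'.mp hG with rfl | hG'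
    · simp
    refine ⟨⟨G, mem_degreeLT_iff'.mpr (Or.inr (by omega)), rfl⟩, mem_degreeLT_iff'.mpr ?_⟩
    rcases eq_or_ne (Phi r a G) 0 with h | h
    · exact Or.inl h
    · have := X_mul_Phi_natDegree_le r a (G := G) le_rfl
      rw [natDegree_mul X_ne_zero h, natDegree_X] at this
      right; omega

theorem finrank_inf_marked (hr : Function.Injective r) (b : ℕ) (i : Fin m) (n : ℕ) :
    finrank k ↥(Vsp r a b ⊓ (Ideal.span {(X - C (r i)) ^ n}).restrictScalars k) =
      if n ≤ a i then (∑ j, a j) + b - n else (∑ j, a j) + b + 1 - n := by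
  rw [inf_span_marked r a hr b i n]
  split_ifs with h
  · have := finrank_map_of_mem r a (S := Sdiv (r i) ((∑ j, a j) + b + 1) n)
      (mem_Sdiv.mpr ⟨Ap_mem r a b, Ap_pow_dvd r a i h⟩)
    rw [finrank_Sdiv] at this
    omega
  · rw [finrank_map_of_notMem r a fun hm => h (le_of_dvd_Ap r a hr i (mem_Sdiv.mp hm).2), finrank_Sdiv]

theorem finrank_inf_infty (b n : ℕ) :
    finrank k ↥(Vsp r a b ⊓ degreeLT k ((∑ j, a j) + b + m - n)) =
      if n ≤ b then (∑ j, a j) + b - n else (∑ j, a j) + b + 1 - n := by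
  rw [inf_degreeLT r a b n]
  split_ifs with h
  · have := finrank_map_of_mem r a (S := degreeLT k ((∑ j, a j) + b + 1 - n))
      (mem_degreeLT_iff'.mpr (Or.inr (by rw [natDegree_Ap]; omega)))
    rw [finrank_degreeLT'] at this
    omega
  · rw [finrank_map_of_notMem r a, finrank_degreeLT']
    intro hm
    rcases mem_degreeLT_iff'.mp hm with h0 | h0
    · exact (monic_Ap r a).ne_zero h0
    · rw [natDegree_Ap] at h0; omega

theorem finrank_inf_unmarked (b : ℕ) {q : k} (hq : ∀ j, q ≠ r j) (n : ℕ) :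
    finrank k ↥(Vsp r a b ⊓ (Ideal.span {(X - C q) ^ n}).restrictScalars k) =
      (∑ j, a j) + b - n := by
  rw [inf_span_unmarked r a b hq n, finrank_map_of_notMem r a, finrank_Sdiv]
  · omega
  · intro hm
    have h := dvd_iff_isRoot.mp ((dvd_pow_self _ n.succ_ne_zero).trans (mem_Sdiv.mp hm).2)
    exact eval_Ap_ne r a hq h

theorem inf_span_eq_bot (b : ℕ) {q : k} (hq : ∀ j, q ≠ r j) :
    Vsp r a b ⊓ (Ideal.span {(X - C q) ^ ((∑ j, a j) + b)}).restrictScalars k = ⊥ := by
  have h : Sdiv q ((∑ j, a j) + b + 1) ((∑ j, a j) + b + 1) = ⊥ :=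
    Submodule.finrank_eq_zero.mp (by rw [finrank_Sdiv, Nat.sub_self])
  rw [inf_span_unmarked r a b hq, h, Submodule.map_bot]

theorem genSpan_eq (hr : Function.Injective r) (b : ℕ) :
    (degreeLT k b).map (LinearMap.mulLeft k (∏ j, (X - C (r j)) ^ (a j + 1))) ⊔
      ⨆ i, (degreeLT k (a i)).map
        (LinearMap.mulLeft k (∏ j ∈ Finset.univ.erase i, (X - C (r j)) ^ (a j + 1))) =
    Vsp r a b := by
  set A := ∑ j, a j with hA
  refine le_antisymm (sup_le ?_ (iSup_le fun i => ?_)) ?_
  · rintro _ ⟨P, hP, rfl⟩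
    obtain ⟨Q, hQd, hQ⟩ : ∃ Q ∈ degreeLT k (b + 1), derivative Q = P := by
      let L : degreeLT k (b + 1) →ₗ[k] degreeLT k b :=
        LinearMap.codRestrict _ (derivative ∘ₗ (degreeLT k (b + 1)).subtype) fun Q => by
          rcases mem_degreeLT_iff'.mp Q.2 with h | h
          · simp [h]
          · refine mem_degreeLT_iff'.mpr ?_
            rcases Nat.eq_zero_or_pos Q.1.natDegree with h0 | h0
            · exact Or.inl (derivative_of_natDegree_zero h0)
            · exact Or.inr ((natDegree_derivative_lt h0.ne').trans_le (by omega))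
      have hker : finrank k (LinearMap.ker L) ≤ 1 := by
        have h1 : LinearMap.ker L ≤ k ∙ (⟨1, mem_degreeLT_iff'.mpr (Or.inr (by simp))⟩ : degreeLT k (b + 1)) := by
          intro Q hQ
          have hd : derivative (Q : k[X]) = 0 := congrArg Subtype.val (LinearMap.mem_ker.mp hQ)
          obtain ⟨c, hc⟩ := natDegree_eq_zero.mp (natDegree_eq_zero_of_derivative_eq_zero hd)
          exact Submodule.mem_span_singleton.mpr ⟨c, Subtype.ext (by simp [← hc, smul_eq_C_mul])⟩
        exact (Submodule.finrank_mono h1).trans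
          ((finrank_span_le_card _).trans (by simp))
      have h2 := LinearMap.finrank_range_add_finrank_ker L
      rw [finrank_degreeLT'] at h2
      have htop : LinearMap.range L = ⊤ := by
        refine Submodule.eq_top_of_finrank_eq ?_
        have := Submodule.finrank_le (LinearMap.range L)
        rw [finrank_degreeLT'] at this ⊢
        omega
      obtain ⟨Q, hQ⟩ := LinearMap.range_eq_top.mp htop ⟨P, hP⟩
      exact ⟨Q, Q.2, congrArg Subtype.val hQ⟩
    refine ⟨Ap r a * Q, mem_degreeLT_iff'.mpr ?_, by rw [Phi_Ap_mul, hQ]; rfl⟩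
    rcases mem_degreeLT_iff'.mp hQd with rfl | h
    · simp
    · right
      have := natDegree_mul_le (p := Ap r a) (q := Q)
      rw [natDegree_Ap] at this
      omega
  · rintro _ ⟨P, hP, rfl⟩
    let L0 : k[X] →ₗ[k] k[X] :=
      LinearMap.mulRight k (X - C (r i)) ∘ₗ derivative - LinearMap.mulLeft k (C (a i : k))
    have hL0 : ∀ R : k[X], L0 R = derivative R * (X - C (r i)) - C (a i : k) * R := fun R => by
      simp [L0]
    have hcoef : ∀ (R : k[X]), R.natDegree < a i → R ≠ 0 →
        (L0 R).natDegree ≤ R.natDegree ∧ (L0 R).coeff R.natDegree ≠ 0 := by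
      intro R hR hR0
      have hdd : (derivative R * (X - C (r i))).natDegree ≤ R.natDegree := by
        rcases Nat.eq_zero_or_pos R.natDegree with h0 | h0
        · simp [derivative_of_natDegree_zero h0]
        · refine natDegree_mul_le.trans ?_
          have := natDegree_derivative_lt h0.ne'
          rw [natDegree_X_sub_C]; omega
      refine ⟨?_, ?_⟩
      · rw [hL0]
        exact (natDegree_sub_le _ _).trans (max_le hdd (natDegree_C_mul_le _ _))
      · rw [hL0, coeff_sub, coeff_C_mul]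
        have hc : (derivative R * (X - C (r i))).coeff R.natDegree =
            (R.natDegree : k) * R.coeff R.natDegree := by
          rcases hn : R.natDegree with _ | t
          · simp [derivative_of_natDegree_zero hn]
          · rw [coeff_mul_X_sub_C, coeff_derivative, coeff_derivative,
              coeff_eq_zero_of_natDegree_lt (n := t + 1 + 1) (by omega)]
            push_cast; ring
        rw [hc, ← sub_mul]
        refine mul_ne_zero (sub_ne_zero.mpr ?_) (mt leadingCoeff_eq_zero.mp hR0)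
        exact_mod_cast hR.ne
    let L : degreeLT k (a i) →ₗ[k] degreeLT k (a i) :=
      LinearMap.codRestrict _ (L0 ∘ₗ (degreeLT k (a i)).subtype) fun R => by
        rcases mem_degreeLT_iff'.mp R.2 with h | h
        · simp [h]
        · rcases eq_or_ne (R : k[X]) 0 with h' | h'
          · simp [h']
          · exact mem_degreeLT_iff'.mpr (Or.inr ((hcoef _ h h').1.trans_lt h))
    have hinj : Function.Injective L := by
      refine (injective_iff_map_eq_zero L).mpr fun R hR => ?_
      by_contra hne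
      have hne' : (R : k[X]) ≠ 0 := fun h => hne (Subtype.ext h)
      have h := (mem_degreeLT_iff'.mp R.2).resolve_left hne'
      refine (hcoef _ h hne').2 ?_
      rw [show L0 (R : k[X]) = 0 from congrArg Subtype.val hR, coeff_zero]
    obtain ⟨R, hR⟩ := (LinearMap.injective_iff_surjective.mp hinj) ⟨P, hP⟩
    refine ⟨(∏ j ∈ Finset.univ.erase i, (X - C (r j)) ^ a j) * (R : k[X]),
      mem_degreeLT_iff'.mpr ?_, ?_⟩
    · rcases mem_degreeLT_iff'.mp R.2 with h | h
      · left; rw [h, mul_zero]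
      · right
        have := natDegree_mul_le (p := ∏ j ∈ Finset.univ.erase i, (X - C (r j)) ^ a j) (q := (R : k[X]))
        rw [natDegree_prod_of_monic _ _ fun j _ => (monic_X_sub_C _).pow _] at this
        simp only [natDegree_pow, natDegree_X_sub_C, mul_one] at this
        have h2 := Finset.add_sum_erase Finset.univ a (Finset.mem_univ i)
        omega
    · rw [Phi_part_mul, ← hL0, show L0 (R : k[X]) = P from congrArg Subtype.val hR]; rfl
  · -- partial fractions
    let E : (∀ i, degreeLT k (a i)) →ₗ[k] k[X] :=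
      ∑ i, LinearMap.mulLeft k (∏ j ∈ Finset.univ.erase i, (X - C (r j)) ^ a j) ∘ₗ
        (degreeLT k (a i)).subtype ∘ₗ LinearMap.proj i
    have hE : ∀ c, E c = ∑ i, (∏ j ∈ Finset.univ.erase i, (X - C (r j)) ^ a j) * (c i : k[X]) :=
      fun c => by simp [E]
    have hEinj : Function.Injective E := by
      refine (injective_iff_map_eq_zero E).mpr fun c hc => funext fun i => Subtype.ext ?_
      rw [hE, ← Finset.add_sum_erase _ _ (Finset.mem_univ i)] at hc
      have hd : (X - C (r i)) ^ a i ∣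
          (∏ j ∈ Finset.univ.erase i, (X - C (r j)) ^ a j) * (c i : k[X]) := by
        rw [eq_neg_of_add_eq_zero_left hc, dvd_neg]
        refine Finset.dvd_sum fun l hl => Dvd.dvd.mul_right (Finset.dvd_prod_of_mem
          (fun j => (X - C (r j)) ^ a j) ?_) _
        exact Finset.mem_erase.mpr ⟨(Finset.ne_of_mem_erase hl).symm, Finset.mem_univ i⟩
      have hcop : IsCoprime ((X - C (r i)) ^ a i)
          (∏ j ∈ Finset.univ.erase i, (X - C (r j)) ^ a j) :=
        IsCoprime.prod_right fun j hj => (isCoprime_X_sub_C_of_isUnit_sub (sub_ne_zero.mpr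
          fun h => Finset.ne_of_mem_erase hj (hr h).symm).isUnit).pow
      have h := hcop.dvd_of_dvd_mul_left hd
      rcases mem_degreeLT_iff'.mp (c i).2 with h0 | h0
      · exact h0
      · exact eq_zero_of_dvd_of_natDegree_lt h (by simpa using h0)
    have hrange : LinearMap.range E = degreeLT k A := by
      have hle : LinearMap.range E ≤ degreeLT k A := by
        rintro _ ⟨c, rfl⟩
        rw [hE]
        refine sum_mem fun i _ => ?_
        rcases mem_degreeLT_iff'.mp (c i).2 with h | h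
        · rw [h, mul_zero]; exact zero_mem _
        · refine mem_degreeLT_iff'.mpr (Or.inr ?_)
          have := natDegree_mul_le (p := ∏ j ∈ Finset.univ.erase i, (X - C (r j)) ^ a j) (q := (c i : k[X]))
          rw [natDegree_prod_of_monic _ _ fun j _ => (monic_X_sub_C _).pow _] at this
          simp only [natDegree_pow, natDegree_X_sub_C, mul_one] at this
          have h2 := Finset.add_sum_erase Finset.univ a (Finset.mem_univ i)
          omega
      refine Submodule.eq_of_le_of_finrank_eq hle ?_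
      rw [LinearMap.finrank_range_of_inj hEinj, finrank_degreeLT', Module.finrank_pi_fintype k]
      simp only [finrank_degreeLT', hA]
    rintro _ ⟨G, hG, rfl⟩
    have hdec := modByMonic_add_div G (Ap r a)
    have hmod : G %ₘ Ap r a ∈ degreeLT k A := by
      rw [mem_degreeLT, hA, ← natDegree_Ap r a,
        ← degree_eq_natDegree (monic_Ap r a).ne_zero]
      exact degree_modByMonic_lt _ (monic_Ap r a)
    rw [← hrange] at hmod
    obtain ⟨c, hc⟩ := hmod
    rw [← hdec, map_add, ← hc, hE, map_sum]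
    refine add_mem (Submodule.mem_sup_right (sum_mem fun i _ => ?_)) (Submodule.mem_sup_left ?_)
    · rw [Phi_part_mul]
      refine Submodule.mem_iSup_of_mem i ⟨_, ?_, rfl⟩
      rcases mem_degreeLT_iff'.mp (c i).2 with h | h
      · simp [h]
      · refine mem_degreeLT_iff'.mpr (Or.inr ?_)
        refine lt_of_le_of_lt ((natDegree_sub_le _ _).trans (max_le ?_ (natDegree_C_mul_le _ _))) h
        rcases Nat.eq_zero_or_pos (c i : k[X]).natDegree with h0 | h0
        · simp [derivative_of_natDegree_zero h0]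
        · refine natDegree_mul_le.trans ?_
          have := natDegree_derivative_lt h0.ne'
          rw [natDegree_X_sub_C]; omega
    · rw [Phi_Ap_mul]
      refine ⟨_, ?_, rfl⟩
      rcases Nat.eq_zero_or_pos (G /ₘ Ap r a).natDegree with h0 | h0
      · simp [derivative_of_natDegree_zero h0]
      · refine mem_degreeLT_iff'.mpr (Or.inr ?_)
        have hdiv := natDegree_divByMonic G (monic_Ap r a)
        have := natDegree_derivative_lt h0.ne'
        rcases mem_degreeLT_iff'.mp hG with h | h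
        · simp [h] at h0
        · rw [natDegree_Ap] at hdiv; omega

end spaces

end Groth.Agent.EffDiv29
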