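import Groth.Agent.Lib.EffDiv29.Basic

/-!
Hyperplanes of the space of differentials: ramification at unmarked points and weights at marked points.
-/

namespace Groth.Agent.EffDiv29

open Polynomial Module

variable {k : Type*} [Field k] {m : ℕ} (r : Fin m → k) (a : Fin m → ℕ) (b : ℕ)

theorem sum_add_one_eq : (∑ j, (a j + 1)) + b = (∑ j, a j) + b + m := by
  simp [Finset.sum_add_distrib]; omega

theorem degreeLT_succ_le {S : Submodule k k[X]} {n : ℕ} (h : degreeLT k n ≤ S) {P : k[X]}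
    (hP : P ∈ S) (hc : P.coeff n ≠ 0) (hd : P.natDegree ≤ n) : degreeLT k (n + 1) ≤ S := by
  intro G hG
  have hG' : G.natDegree ≤ n := by
    rcases mem_degreeLT_iff'.mp hG with rfl | h'
    · simp
    · omega
  have : G - (G.coeff n / P.coeff n) • P ∈ degreeLT k n := by
    rw [mem_degreeLT, degree_lt_iff_coeff_zero]
    intro j hj
    rcases eq_or_lt_of_le hj with rfl | hj
    · simp [div_mul_cancel₀ _ hc]
    · simp [coeff_eq_zero_of_natDegree_lt (hG'.trans_lt hj),
        coeff_eq_zero_of_natDegree_lt (hd.trans_lt hj)]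
  simpa using add_mem (h this) (S.smul_mem (G.coeff n / P.coeff n) hP)

theorem pow_mem_Sdiv (q : k) {e n M : ℕ} (hne : n ≤ e) (heM : e < M) :
    (X - C q) ^ e ∈ Sdiv q M n :=
  mem_Sdiv.mpr ⟨mem_degreeLT_iff'.mpr (Or.inr (by simpa using heM)), pow_dvd_pow _ hne⟩

theorem finrank_inf_of_le {V W : Submodule k k[X]} {V1 : Submodule k k[X]} (hV1 : V1 ≤ V)
    (h : V ⊓ W ≤ V1) : finrank k ↥(V1 ⊓ W) = finrank k ↥(V ⊓ W) := by
  rw [le_antisymm (inf_le_inf_right W hV1) (le_inf h inf_le_right)]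

theorem finrank_inf_of_not_le {V W : Submodule k k[X]} {V1 : Submodule k k[X]}
    [FiniteDimensional k V] (hV1 : V1 ≤ V) (hfin : finrank k V1 + 1 = finrank k V)
    (h : ¬ V ⊓ W ≤ V1) : finrank k ↥(V1 ⊓ W) + 1 = finrank k ↥(V ⊓ W) := by
  haveI := Submodule.finiteDimensional_of_le hV1
  haveI := Submodule.finiteDimensional_of_le (inf_le_left : V ⊓ W ≤ V)
  have h2 := Submodule.finrank_sup_add_finrank_inf_eq V1 (V ⊓ W)
  rw [show V1 ⊓ (V ⊓ W) = V1 ⊓ W by rw [← inf_assoc, inf_eq_left.mpr hV1]] at h2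
  have h3 : V1 < V1 ⊔ (V ⊓ W) := left_lt_sup.mpr h
  have h4 := Submodule.finrank_lt_finrank_of_lt h3
  have h5 : finrank k ↥(V1 ⊔ (V ⊓ W)) ≤ finrank k V := Submodule.finrank_mono (sup_le hV1 inf_le_left)
  omega

theorem sum_formula (K c : ℕ) :
    (∑ i ∈ Finset.range K, ((K - 1 - i) + if c ≤ i then 1 else 0)) = K.choose 2 + (K - c) := by
  rw [Finset.sum_add_distrib, Finset.sum_range_reflect (fun i => i) K, Finset.sum_range_id,
    ← Nat.choose_two_right]
  congr 1
  induction K with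
  | zero => simp
  | succ n ih => rw [Finset.sum_range_succ, ih]; split_ifs <;> omega

theorem sum_range_congr_zero {g F : ℕ → ℕ} {d K : ℕ} (h : ∀ i, i < d → i < K → g i = F i)
    (hg : ∀ i, K ≤ i → i < d → g i = 0) (hF : ∀ i, d ≤ i → i < K → F i = 0) :
    ∑ i ∈ Finset.range d, g i = ∑ i ∈ Finset.range K, F i := by
  rw [← Finset.sum_filter_of_ne (s := Finset.range d) (p := (· < K)) (f := g),
    ← Finset.sum_filter_of_ne (s := Finset.range K) (p := (· < d)) (f := F)]
  · refine Finset.sum_congr (by ext i; simp [and_comm]) fun i hi => ?_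
    simp only [Finset.mem_filter, Finset.mem_range] at hi
    exact h i hi.2 hi.1
  · intro i hi hne
    by_contra hlt
    exact hne (hF i (by omega) (Finset.mem_range.mp hi))
  · intro i hi hne
    by_contra hlt
    exact hne (hg i (by omega) (Finset.mem_range.mp hi))

theorem sum_range_add_one {g : ℕ → ℕ} {d K : ℕ} (hK : K < d) (hg : ∀ i, K < i → i < d → g i = 0) :
    ∑ i ∈ Finset.range d, g i = (∑ i ∈ Finset.range K, g i) + g K := by
  rw [← Finset.sum_range_succ]
  refine (Finset.sum_subset (by intro i; simp only [Finset.mem_range]; omega) fun i hi hi' => ?_).symm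
  rw [Finset.mem_range] at hi hi'
  exact hg i (by omega) hi

variable [CharZero k] {V1 : Submodule k k[X]}

theorem eval_Phi_pow {p : k} (q : k) (e : ℕ) :
    (p - q) * (Phi r a ((X - C q) ^ e)).eval p =
      (p - q) ^ e * ((e : k) * (Lp r).eval p - (p - q) * (Sp r a).eval p) := by
  have h := congrArg (eval p) (X_sub_mul_Phi_pow_mul r a q e 1)
  simpa using h

theorem not_both_vanish {p : k} (hp : ∀ j, p ≠ r j) {q : k} (hpq : q ≠ p) {e : ℕ}
    (h1 : (Phi r a ((X - C q) ^ e)).eval p = 0) (h2 : (Phi r a ((X - C q) ^ (e + 1))).eval p = 0) :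
    False := by
  have hne : p - q ≠ 0 := sub_ne_zero.mpr hpq.symm
  have e1 := eval_Phi_pow r a (p := p) q e
  have e2 := eval_Phi_pow r a (p := p) q (e + 1)
  rw [h1, mul_zero] at e1
  rw [h2, mul_zero] at e2
  have f1 := (mul_eq_zero.mp e1.symm).resolve_left (pow_ne_zero _ hne)
  have f2 := (mul_eq_zero.mp e2.symm).resolve_left (pow_ne_zero _ hne)
  push_cast at f2
  exact eval_Lp_ne r hp (by linear_combination f2 - f1)

theorem inf_span_eq_bot_of_le (hV1 : V1 ≤ Vsp r a b) {q : k} (hq : ∀ j, q ≠ r j) :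
    V1 ⊓ (Ideal.span {(X - C q) ^ ((∑ j, a j) + b)}).restrictScalars k = ⊥ :=
  eq_bot_iff.mpr ((inf_le_inf_right _ hV1).trans (inf_span_eq_bot r a b hq).le)

theorem finrank_inf_le_one (hV1 : V1 ≤ Vsp r a b) (hfin : finrank k V1 + 1 = (∑ j, a j) + b)
    {q : k} (hq : ∀ j, q ≠ r j)
    (hpair : ∀ e, e + 1 = (∑ j, a j) + b → Phi r a ((X - C q) ^ e) ∈ V1 →
      Phi r a ((X - C q) ^ (e + 1)) ∈ V1 → False) :
    finrank k ↥(V1 ⊓ (Ideal.span {(X - C q) ^ ((∑ j, a j) + b - 2)}).restrictScalars k) ≤ 1 := by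
  haveI := Submodule.finiteDimensional_of_le hV1
  rcases Nat.lt_or_ge ((∑ j, a j) + b) 2 with hN | hN
  · exact (Submodule.finrank_mono inf_le_left).trans (by omega)
  have h2 := finrank_inf_unmarked r a b hq ((∑ j, a j) + b - 2)
  have hlt : ¬ Vsp r a b ⊓ (Ideal.span {(X - C q) ^ ((∑ j, a j) + b - 2)}).restrictScalars k ≤ V1 := by
    rw [inf_span_unmarked r a b hq]
    intro hle
    refine hpair ((∑ j, a j) + b - 1) (by omega) (hle ⟨_, ?_, rfl⟩) (hle ⟨_, ?_, rfl⟩) <;>
      exact pow_mem_Sdiv q (by omega) (by omega)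
  have h3 := finrank_inf_of_not_le hV1 (by rw [finrank_Vsp]; exact hfin) hlt
  omega

theorem pow_mem_of_ne_bot (hV1 : V1 ≤ Vsp r a b) (hN : 1 ≤ (∑ j, a j) + b)
    {q : k} (hq : ∀ j, q ≠ r j)
    (h : V1 ⊓ (Ideal.span {(X - C q) ^ ((∑ j, a j) + b - 1)}).restrictScalars k ≠ ⊥) :
    Phi r a ((X - C q) ^ ((∑ j, a j) + b)) ∈ V1 := by
  haveI := Submodule.finiteDimensional_of_le hV1
  have h1 := finrank_inf_unmarked r a b hq ((∑ j, a j) + b - 1)
  haveI : FiniteDimensional k ↥(Vsp r a b ⊓ (Ideal.span {(X - C q) ^ ((∑ j, a j) + b - 1)}).restrictScalars k) :=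
    Submodule.finiteDimensional_of_le inf_le_left
  have h2 : 1 ≤ finrank k ↥(V1 ⊓ (Ideal.span {(X - C q) ^ ((∑ j, a j) + b - 1)}).restrictScalars k) :=
    Submodule.one_le_finrank_iff.mpr h
  have h3 := Submodule.eq_of_le_of_finrank_le (inf_le_inf_right
    ((Ideal.span {(X - C q) ^ ((∑ j, a j) + b - 1)}).restrictScalars k) hV1) (by omega)
  have h4 : Phi r a ((X - C q) ^ ((∑ j, a j) + b)) ∈
      V1 ⊓ (Ideal.span {(X - C q) ^ ((∑ j, a j) + b - 1)}).restrictScalars k := by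
    rw [h3, inf_span_unmarked r a b hq]
    exact ⟨_, pow_mem_Sdiv q (by omega) (by omega), rfl⟩
  exact h4.1

theorem weights_marked (hr : Function.Injective r) (ha : ∀ j, 1 ≤ a j) (hb : 1 ≤ b)
    (hV1 : V1 ≤ Vsp r a b) (hfin : finrank k V1 + 1 = (∑ j, a j) + b) (i : Fin m)
    (hpair : ∀ e, e + 1 = (∑ j, a j) + b → Phi r a ((X - C (r i)) ^ e) ∈ V1 →
      Phi r a ((X - C (r i)) ^ (e + 1)) ∈ V1 → False)
    {d : ℕ} (hd : d + 1 = (∑ j, a j) + b + m) :
    ∃ ε : ℕ, ε ≤ 1 ∧
      (∑ n ∈ Finset.range d, finrank k ↥(V1 ⊓ (Ideal.span {(X - C (r i)) ^ (n + 1)}).restrictScalars k)) + 1 =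
        ((∑ j, a j) + b - 1).choose 2 + ((∑ j, a j) + b - a i) + ε := by
  haveI := Submodule.finiteDimensional_of_le hV1
  have hai : a i ≤ ∑ j, a j := Finset.single_le_sum (fun j _ => Nat.zero_le _) (Finset.mem_univ i)
  have hai1 := ha i
  have hm : 1 ≤ m := i.pos
  set N := (∑ j, a j) + b with hN
  have hfinV : finrank k V1 + 1 = finrank k (Vsp r a b) := by rw [finrank_Vsp]; omega
  let W : ℕ → Submodule k k[X] := fun n =>
    (Ideal.span {(X - C (r i)) ^ n}).restrictScalars k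
  have hWle : ∀ {n n'}, n ≤ n' → W n' ≤ W n := fun h x hx => by
    simp only [W, Submodule.restrictScalars_mem, Ideal.mem_span_singleton] at hx ⊢
    exact (pow_dvd_pow _ h).trans hx
  have hnot : ¬ Vsp r a b ⊓ W (N - 1) ≤ V1 := by
    simp only [W]
    rw [inf_span_marked r a hr b i]
    intro hle
    refine hpair (N - 1) (by omega) (hle ⟨_, ?_, rfl⟩) (hle ⟨_, ?_, rfl⟩) <;>
      exact pow_mem_Sdiv (r i) (by omega) (by omega)
  have hg : ∀ n, n < N - 1 → finrank k ↥(V1 ⊓ W (n + 1)) =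
      (N - 1 - 1 - n) + if a i ≤ n then 1 else 0 := by
    intro n hn
    have h1 := finrank_inf_of_not_le hV1 hfinV (W := W (n + 1)) fun hle =>
      hnot ((inf_le_inf_left _ (hWle (by omega))).trans hle)
    rw [show finrank k ↥(Vsp r a b ⊓ W (n + 1)) = _ from finrank_inf_marked r a hr b i (n + 1)] at h1
    split_ifs at h1 ⊢ <;> omega
  have hle : ∀ n, finrank k ↥(V1 ⊓ W n) ≤
      if n ≤ a i then (∑ j, a j) + b - n else (∑ j, a j) + b + 1 - n := fun n => by
    haveI : FiniteDimensional k ↥(Vsp r a b ⊓ W n) := Submodule.finiteDimensional_of_le inf_le_left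
    exact (Submodule.finrank_mono (inf_le_inf_right (W n) hV1)).trans
      (finrank_inf_marked r a hr b i n).le
  refine ⟨finrank k ↥(V1 ⊓ W N), (hle N).trans (by split_ifs <;> omega), ?_⟩
  rw [sum_range_add_one (K := N - 1) (by omega), Finset.sum_congr rfl fun n hn => hg n (Finset.mem_range.mp hn),
    sum_formula, show N - 1 + 1 = N by omega]
  · simp only [W]; omega
  · intro n h1 _
    have := hle (n + 1)
    split_ifs at this <;> simp only [W] at this <;> omega

theorem finrank_inf_infty' {d : ℕ} (hd : d + 1 = (∑ j, a j) + b + m) (n : ℕ) :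
    finrank k ↥(Vsp r a b ⊓ degreeLT k (d - n)) =
      if n + 1 ≤ b then (∑ j, a j) + b - (n + 1) else (∑ j, a j) + b + 1 - (n + 1) := by
  rw [show d - n = (∑ j, a j) + b + m - (n + 1) by omega, finrank_inf_infty]

theorem finrank_inf_infty_le (hV1 : V1 ≤ Vsp r a b) {d : ℕ} (hd : d + 1 = (∑ j, a j) + b + m) (n : ℕ) :
    finrank k ↥(V1 ⊓ degreeLT k (d - n)) ≤
      if n + 1 ≤ b then (∑ j, a j) + b - (n + 1) else (∑ j, a j) + b + 1 - (n + 1) := by
  haveI : FiniteDimensional k ↥(Vsp r a b ⊓ degreeLT k (d - n)) :=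
    Submodule.finiteDimensional_of_le inf_le_left
  exact (Submodule.finrank_mono (inf_le_inf_right _ hV1)).trans (finrank_inf_infty' r a b hd n).le

theorem weights_infty_of_not_le (hm : m = 0 ∨ 1 ≤ ∑ j, a j) (hb : 1 ≤ b)
    (hV1 : V1 ≤ Vsp r a b) (hfin : finrank k V1 + 1 = (∑ j, a j) + b)
    (hnot : 2 ≤ (∑ j, a j) + b → ¬ (degreeLT k 2).map (Phi r a) ≤ V1)
    {d : ℕ} (hd : d + 1 = (∑ j, a j) + b + m) :
    ∃ ε : ℕ, ε ≤ 1 ∧
      (∑ n ∈ Finset.range d, finrank k ↥(V1 ⊓ degreeLT k (d - n))) + 1 =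
        ((∑ j, a j) + b - 1).choose 2 + ((∑ j, a j) + b - b) + ε := by
  haveI := Submodule.finiteDimensional_of_le hV1
  set N := (∑ j, a j) + b with hN
  have hfinV : finrank k V1 + 1 = finrank k (Vsp r a b) := by rw [finrank_Vsp]; omega
  have hg : ∀ n, n < N - 1 → finrank k ↥(V1 ⊓ degreeLT k (d - n)) =
      (N - 1 - 1 - n) + if b ≤ n then 1 else 0 := by
    intro n hn
    have h1 := finrank_inf_of_not_le hV1 hfinV (W := degreeLT k (d - n)) fun hle => by
      refine hnot (by omega) (le_trans ?_ hle)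
      rw [show d - n = (∑ j, a j) + b + m - (n + 1) by omega, inf_degreeLT]
      exact Submodule.map_mono (degreeLT_mono (by omega))
    rw [finrank_inf_infty' r a b hd n] at h1
    split_ifs at h1 ⊢ <;> omega
  rcases hm with hm | hm
  · subst hm
    have hA : ∑ j, a j = 0 := by simp
    refine ⟨1, le_rfl, ?_⟩
    rw [show d = N - 1 by omega] at hg ⊢
    rw [Finset.sum_congr rfl fun n hn => hg n (Finset.mem_range.mp hn), sum_formula]
    omega
  · have hm' : 1 ≤ m := by
      rcases Nat.eq_zero_or_pos m with rfl | h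
      · simp at hm
      · exact h
    refine ⟨finrank k ↥(V1 ⊓ degreeLT k (d - (N - 1))),
      (finrank_inf_infty_le r a b hV1 hd _).trans (by split_ifs <;> omega), ?_⟩
    rw [sum_range_add_one (K := N - 1) (by omega), Finset.sum_congr rfl fun n hn => hg n (Finset.mem_range.mp hn),
      sum_formula]
    · omega
    · intro n h1 _
      have := finrank_inf_infty_le r a b hV1 hd n
      split_ifs at this <;> omega

theorem weights_infty_of_le (hb : 1 ≤ b)
    (hV1 : V1 ≤ Vsp r a b) (hfin : finrank k V1 + 1 = (∑ j, a j) + b)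
    (hsub : (degreeLT k ((∑ j, a j) + b - 1)).map (Phi r a) ≤ V1)
    {d : ℕ} (hd : d + 1 = (∑ j, a j) + b + m) (hm : m = 0 ∨ 1 ≤ ∑ j, a j) :
    ∃ ε : ℕ, ε ≤ 1 ∧
      (∑ n ∈ Finset.range d, finrank k ↥(V1 ⊓ degreeLT k (d - n))) =
        ((∑ j, a j) + b - 1).choose 2 + ((∑ j, a j) + b - b) + ((∑ j, a j) + b - 2) + ε := by
  haveI := Submodule.finiteDimensional_of_le hV1
  set N := (∑ j, a j) + b with hN
  have hfinV : finrank k V1 + 1 = finrank k (Vsp r a b) := by rw [finrank_Vsp]; omega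
  rcases d with _ | d'
  · have : m = 0 := by
      rcases hm with h | h
      · exact h
      · omega
    subst this
    have hA : ∑ j, a j = 0 := by simp
    refine ⟨0, Nat.zero_le _, ?_⟩
    rw [show N = 1 by omega, show b = 1 by omega]
    simp
  have hN2 : 2 ≤ N := by
    rcases hm with h | h
    · omega
    · omega
  have hg0 : N - 2 ≤ finrank k ↥(V1 ⊓ degreeLT k (d' + 1)) ∧
      finrank k ↥(V1 ⊓ degreeLT k (d' + 1)) ≤ N - 2 + 1 := by
    have h0 := finrank_inf_infty' r a b hd 0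
    rw [if_pos (by omega)] at h0
    simp only [Nat.sub_zero] at h0
    by_cases hle : Vsp r a b ⊓ degreeLT k (d' + 1) ≤ V1
    · have := finrank_inf_of_le hV1 hle
      omega
    · have := finrank_inf_of_not_le hV1 hfinV hle
      omega
  have hg : ∀ n, finrank k ↥(V1 ⊓ degreeLT k (d' + 1 - (n + 1))) =
      if n + 1 + 1 ≤ b then N - (n + 1 + 1) else N + 1 - (n + 1 + 1) := by
    intro n
    rw [finrank_inf_of_le hV1, finrank_inf_infty' r a b hd]
    refine le_trans ?_ hsub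
    rw [show d' + 1 - (n + 1) = (∑ j, a j) + b + m - (n + 1 + 1) by omega, inf_degreeLT]
    exact Submodule.map_mono (degreeLT_mono (by omega))
  refine ⟨finrank k ↥(V1 ⊓ degreeLT k (d' + 1)) - (N - 2), by omega, ?_⟩
  rw [Finset.sum_range_succ', Nat.sub_zero,
    sum_range_congr_zero (K := N - 1) (F := fun n => (N - 1 - 1 - n) + if b - 1 ≤ n then 1 else 0),
    sum_formula]
  · omega
  · intro n _ _
    rw [hg]
    split_ifs <;> omega
  · intro n h1 _
    rw [hg]
    split_ifs <;> omega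
  · intro n h1 h2
    have hA : m = 0 → ∑ j, a j = 0 := fun h => by subst h; simp
    split_ifs
    · rcases hm with h | h
      · have := hA h; omega
      · omega
    · omega

section containing_drop_two

variable (hV1 : V1 ≤ Vsp r a b) (hfin : finrank k V1 + 1 = (∑ j, a j) + b)

/-- the preimage of the hyperplane -/
noncomputable def pre (V1 : Submodule k k[X]) : Submodule k k[X] :=
  degreeLT k ((∑ j, a j) + b + 1) ⊓ V1.comap (Phi r a)

include hV1 hfin in
theorem pre_ne : pre r a b V1 ≠ degreeLT k ((∑ j, a j) + b + 1) := by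
  intro h
  have : Vsp r a b ≤ V1 := Submodule.map_le_iff_le_comap.mpr (h ▸ inf_le_right)
  haveI := Submodule.finiteDimensional_of_le hV1
  have h2 := Submodule.finrank_mono ‹Vsp r a b ≤ V1›
  rw [finrank_Vsp] at h2
  omega

include hV1 hfin in
theorem pair_false (hsub : (degreeLT k ((∑ j, a j) + b - 1)).map (Phi r a) ≤ V1) {e : ℕ}
    (he : e + 1 = (∑ j, a j) + b) {P Q : k[X]} (hP : Phi r a P ∈ V1) (hPd : P.natDegree ≤ e)
    (hPc : P.coeff e ≠ 0) (hQ : Phi r a Q ∈ V1) (hQd : Q.natDegree ≤ e + 1)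
    (hQc : Q.coeff (e + 1) ≠ 0) : False := by
  refine pre_ne r a b hV1 hfin (le_antisymm inf_le_left ?_)
  rw [← he]
  refine degreeLT_succ_le (degreeLT_succ_le (n := e) ?_ (P := P) ?_ hPc hPd) (P := Q) ?_ hQc hQd
  · refine le_inf (degreeLT_mono (by omega)) (Submodule.map_le_iff_le_comap.mp ?_)
    rwa [show e = (∑ j, a j) + b - 1 by omega]
  · exact ⟨mem_degreeLT_iff'.mpr (Or.inr (by omega)), hP⟩
  · exact ⟨mem_degreeLT_iff'.mpr (Or.inr (by omega)), hQ⟩

include hV1 hfin in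
theorem pair_false_pow (hsub : (degreeLT k ((∑ j, a j) + b - 1)).map (Phi r a) ≤ V1) (q : k) {e : ℕ}
    (he : e + 1 = (∑ j, a j) + b) (h1 : Phi r a ((X - C q) ^ e) ∈ V1)
    (h2 : Phi r a ((X - C q) ^ (e + 1)) ∈ V1) : False := by
  have hc : ∀ n, ((X - C q) ^ n).coeff n = 1 := fun n => by
    have h := ((monic_X_sub_C q).pow n).coeff_natDegree
    rwa [natDegree_pow, natDegree_X_sub_C, mul_one] at h
  refine pair_false r a b hV1 hfin hsub he h1 (by simp) ?_ h2 (by simp) ?_ <;> simp [hc]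

include hV1 hfin in
theorem unique_pow (hsub : (degreeLT k ((∑ j, a j) + b - 1)).map (Phi r a) ≤ V1) (hb : 1 ≤ b)
    {q q' : k} (h : Phi r a ((X - C q) ^ ((∑ j, a j) + b)) ∈ V1)
    (h' : Phi r a ((X - C q') ^ ((∑ j, a j) + b)) ∈ V1) : q = q' := by
  by_contra hne
  obtain ⟨e, he⟩ : ∃ e, e + 1 = (∑ j, a j) + b := ⟨(∑ j, a j) + b - 1, by omega⟩
  rw [← he] at h h'
  have hc : ∀ x : k, ((X - C x) ^ (e + 1)).coeff e = -((e + 1 : ℕ) : k) * x := fun x => by
    rw [sub_eq_add_neg, ← C_neg, coeff_X_add_C_pow]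
    simp; ring
  have hc1 : ∀ x : k, ((X - C x) ^ (e + 1)).coeff (e + 1) = 1 := fun x => by
    have h := ((monic_X_sub_C x).pow (e + 1)).coeff_natDegree
    rwa [natDegree_pow, natDegree_X_sub_C, mul_one] at h
  refine pair_false r a b hV1 hfin hsub he (P := (X - C q) ^ (e + 1) - (X - C q') ^ (e + 1))
    (by rw [map_sub]; exact sub_mem h h') ?_ ?_ h (by simp) (by simp [hc1])
  · refine natDegree_le_iff_coeff_eq_zero.mpr fun j hj => ?_
    rcases Nat.lt_or_ge (e + 1) j with hj' | hj'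
    · simp [coeff_eq_zero_of_natDegree_lt (show ((X - C q) ^ (e + 1)).natDegree < j by simpa using hj'),
        coeff_eq_zero_of_natDegree_lt (show ((X - C q') ^ (e + 1)).natDegree < j by simpa using hj')]
    · obtain rfl : j = e + 1 := by omega
      simp [hc1]
  · rw [coeff_sub, hc, hc, ← mul_sub]
    exact mul_ne_zero (neg_ne_zero.mpr (Nat.cast_ne_zero.mpr e.succ_ne_zero)) (sub_ne_zero.mpr hne)

end containing_drop_two

theorem map_drop_two_le (hr : Function.Injective r) (hb : 1 ≤ b)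
    (hU : (degreeLT k (b - 2)).map (LinearMap.mulLeft k (∏ j, (X - C (r j)) ^ (a j + 1))) ⊔
      (⨆ i, (degreeLT k (a i)).map
        (LinearMap.mulLeft k (∏ j ∈ Finset.univ.erase i, (X - C (r j)) ^ (a j + 1)))) ≤ V1) :
    (degreeLT k ((∑ j, a j) + b - 1)).map (Phi r a) ≤ V1 := by
  rw [genSpan_eq r a hr (b - 2)] at hU
  exact (Submodule.map_mono (degreeLT_mono (by omega))).trans hU

end Groth.Agent.EffDiv29
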